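import Mathlib
import Cfsg.Prelude.Def_TwoFusion

/-!
helper14: shared definitions for S2221 (direct decomposability of the Sylow 2-subgroups of the
alternating groups).  `C2`, `sgnOf` (sign character of a permutation action), `CI` (central
indecomposability), `IsLevel r W X` (the package of properties of the Sylow 2-subgroup `W` of the
symmetric group on a set `X` of `2 ^ r` points), `piSgn` (product of sign characters on a Pi group),
`DecompIn` (the subgroup is an internal direct product of two nontrivial subgroups).
-/

set_option autoImplicit false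

namespace Cfsg.Agent.Lib.Helper14.SylA

/-- The cyclic group of order two. -/
abbrev C2 : Type := Multiplicative (ZMod 2)

/-- The sign character of a permutation action on a finite set. -/
noncomputable def sgnOf (W X : Type) [Group W] [MulAction W X] [Fintype X] [DecidableEq X] :
    W →* ℤˣ :=
  Equiv.Perm.sign.comp (MulAction.toPermHom W X)

theorem sgnOf_apply (W X : Type) [Group W] [MulAction W X] [Fintype X] [DecidableEq X] (w : W) :
    sgnOf W X w = Equiv.Perm.sign (MulAction.toPerm w : Equiv.Perm X) := rfl

/-- Central indecomposability: a product of two commuting subgroups is only possible with one of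
them central. -/
def CI (W : Type*) [Group W] : Prop :=
  ∀ A B : Subgroup W, (∀ a ∈ A, ∀ b ∈ B, a * b = b * a) → A ⊔ B = ⊤ →
    A ≤ Subgroup.center W ∨ B ≤ Subgroup.center W

/-- The properties we need of the Sylow 2-subgroup `W` of the symmetric group on `X`,
`|X| = 2 ^ r`, `r ≥ 1`. -/
structure IsLevel (r : ℕ) (W X : Type) [Group W] [MulAction W X] [Fintype X] [DecidableEq X] :
    Prop where
  faithful : FaithfulSMul W X
  cardX : Fintype.card X = 2 ^ r
  cardW : Nat.card W = 2 ^ (2 ^ r - 1)
  center : Nat.card (Subgroup.center W) = 2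
  center_even : 2 ≤ r → Subgroup.center W ≤ (sgnOf W X).ker
  sgn_surj : Function.Surjective (sgnOf W X)
  ci : CI W
  center_ker : 3 ≤ r → Nat.card (Subgroup.center ↥(sgnOf W X).ker) = 2

/-- The product of the sign characters on a Pi group. -/
noncomputable def piSgn {ι : Type} [Fintype ι] (W : ι → Type) [∀ i, Group (W i)]
    (sgn : ∀ i, W i →* ℤˣ) : (∀ i, W i) →* ℤˣ where
  toFun t := ∏ i, sgn i (t i)
  map_one' := by simp
  map_mul' a b := by simp [Finset.prod_mul_distrib]

theorem piSgn_apply {ι : Type} [Fintype ι] (W : ι → Type) [∀ i, Group (W i)]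
    (sgn : ∀ i, W i →* ℤˣ) (t : ∀ i, W i) : piSgn W sgn t = ∏ i, sgn i (t i) := rfl

/-- `P` is the internal direct product of two nontrivial subgroups. -/
def DecompIn {G : Type*} [Group G] (P : Subgroup G) : Prop :=
  ∃ S₁ S₂ : Subgroup G, S₁ ≠ ⊥ ∧ S₂ ≠ ⊥ ∧ Cfsg.IsInternalDirectProduct S₁ S₂ P

end Cfsg.Agent.Lib.Helper14.SylA
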