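import Mathlib
import Cfsg.Agent.Lib.Helper14.SylA.Defs
import Cfsg.Agent.Lib.Helper7.SylAW5
import Cfsg.Agent.Lib.Helper7.SylAG1
import Cfsg.Agent.Lib.Helper7.SylASmall
import Cfsg.Agent.Lib.Helper9.SylAOU
import Cfsg.Agent.Lib.Helper12.SylAG2
import Cfsg.Agent.Lib.Helper12.SylAG34
import Cfsg.Agent.Lib.Helper12.SylAN
import Cfsg.Agent.Lib.Helper27.SylAW67
import Cfsg.Agent.Lib.Helper27.SylAC5
import Cfsg.Agent.Lib.Helper28.SylAAB

/-!
helper14: S2221 final assembly (direct decomposability of the Sylow 2-subgroups of the alternating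
groups) from the SylA leaves (helper7, helper9, helper12, helper13, helper27, helper28).
-/

set_option autoImplicit false
set_option linter.style.haveILetI false

namespace Cfsg.Agent.Lib.Helper14.SylAFinal

open Cfsg.Agent.Lib.Helper14.SylA Cfsg.Agent.Lib.Helper7.SylALeaf Cfsg.Agent.Lib.Helper9.SylALeaf
  Cfsg.Agent.Lib.Helper12.SylALeaf Cfsg.Agent.Lib.Helper27.SylALeaf Cfsg.Agent.Lib.Helper28.SylALeaf
  RegularWreathProduct

theorem isPGroup_of_level {r : ℕ} {W X : Type} [Group W] [MulAction W X] [Fintype X]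
    [DecidableEq X] (h : IsLevel r W X) : IsPGroup 2 W :=
  IsPGroup.of_card h.cardW

theorem finite_of_level {r : ℕ} {W X : Type} [Group W] [MulAction W X] [Fintype X]
    [DecidableEq X] (h : IsLevel r W X) : Finite W := by
  apply Nat.finite_of_card_ne_zero
  rw [h.cardW]; positivity

theorem two_lt_card_of_level {r : ℕ} (hr : 2 ≤ r) {W X : Type} [Group W] [MulAction W X]
    [Fintype X] [DecidableEq X] (h : IsLevel r W X) : 2 < Nat.card W := by
  rw [h.cardW]
  have h1 : 2 ^ 2 ≤ 2 ^ r := Nat.pow_le_pow_right (by norm_num) hr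
  have h2 : 2 ≤ 2 ^ r - 1 := by omega
  calc 2 < 2 ^ 2 := by norm_num
    _ ≤ 2 ^ (2 ^ r - 1) := Nat.pow_le_pow_right (by norm_num) h2

theorem center_ne_top_of_level {r : ℕ} (hr : 2 ≤ r) {W X : Type} [Group W] [MulAction W X]
    [Fintype X] [DecidableEq X] (h : IsLevel r W X) : Subgroup.center W ≠ ⊤ := by
  intro htop
  have h1 := h.center
  rw [htop, Subgroup.card_top] at h1
  have := two_lt_card_of_level hr h
  omega

theorem nontrivial_of_level {r : ℕ} {W X : Type} [Group W] [MulAction W X]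
    [Fintype X] [DecidableEq X] (h : IsLevel r W X) : Nontrivial W := by
  haveI := finite_of_level h
  rw [← Finite.one_lt_card_iff_nontrivial, h.cardW]
  have : 0 < 2 ^ (2 ^ r - 1) := by positivity
  by_contra hc
  have h1 : 2 ^ (2 ^ r - 1) = 1 := by omega
  have h2 := h.center
  have h3 : Nat.card (Subgroup.center W) ≤ Nat.card W := Subgroup.card_le_card_group _
  rw [h.cardW, h1] at h3
  omega

theorem not_decompIn_top_of_card_center {G : Type*} [Group G] [Finite G] (hG : IsPGroup 2 G)
    (hZ : Nat.card (Subgroup.center G) = 2) : ¬ DecompIn (⊤ : Subgroup G) := by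
  have e : ↥(⊤ : Subgroup G) ≃* G := Subgroup.topEquiv
  apply not_decompIn_of_card_center
  · exact hG.of_equiv e.symm
  · have e2 : Subgroup.center ↥(⊤ : Subgroup G) ≃* Subgroup.center G :=
      Subgroup.centerCongr e
    rw [Nat.card_congr e2.toEquiv, hZ]

end Cfsg.Agent.Lib.Helper14.SylAFinal

namespace Cfsg.Agent.Lib.Helper14.SylAFinal

open Cfsg.Agent.Lib.Helper14.SylA Cfsg.Agent.Lib.Helper7.SylALeaf Cfsg.Agent.Lib.Helper9.SylALeaf
  Cfsg.Agent.Lib.Helper12.SylALeaf Cfsg.Agent.Lib.Helper27.SylALeaf Cfsg.Agent.Lib.Helper28.SylALeaf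
  RegularWreathProduct

/-- families over `Option κ` -/
def optT {κ : Type} (W : κ → Type) : Option κ → Type
  | none => C2
  | some k => W k

instance optGroup {κ : Type} (W : κ → Type) [iG : ∀ k, Group (W k)] : ∀ o, Group (optT W o)
  | none => inferInstanceAs (Group C2)
  | some k => iG k

instance optAct {κ : Type} (W X : κ → Type) [iG : ∀ k, Group (W k)]
    [iA : ∀ k, MulAction (W k) (X k)] : ∀ o, MulAction (optT W o) (optT X o)
  | none => inferInstanceAs (MulAction C2 C2)
  | some k => iA k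

instance optFin {κ : Type} (X : κ → Type) [iF : ∀ k, Fintype (X k)] : ∀ o, Fintype (optT X o)
  | none => inferInstanceAs (Fintype C2)
  | some k => iF k

instance optDec {κ : Type} (X : κ → Type) [iD : ∀ k, DecidableEq (X k)] :
    ∀ o, DecidableEq (optT X o)
  | none => inferInstanceAs (DecidableEq C2)
  | some k => iD k

def optL {κ : Type} (ℓ : κ → ℕ) : Option κ → ℕ
  | none => 1
  | some k => ℓ k

theorem optL_inj {κ : Type} (ℓ : κ → ℕ) (h2 : ∀ k, 2 ≤ ℓ k) (hinj : Function.Injective ℓ) :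
    Function.Injective (optL ℓ) := by
  intro a b hab
  cases a with
  | none =>
    cases b with
    | none => rfl
    | some k => exfalso; have := h2 k; simp only [optL] at hab; omega
  | some k =>
    cases b with
    | none => exfalso; have := h2 k; simp only [optL] at hab; omega
    | some k' => simp only [optL] at hab; rw [hinj hab]

theorem bijective_sgn_of_card_two {W X : Type} [Group W] [MulAction W X] [Fintype X]
    [DecidableEq X] (hc : Nat.card W = 2) (hs : Function.Surjective (sgnOf W X)) :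
    Function.Bijective (sgnOf W X) := by
  haveI : Finite W := Nat.finite_of_card_ne_zero (by omega)
  have h2 : Nat.card ℤˣ = 2 := by
    rw [Nat.card_eq_fintype_card]; rfl
  refine ⟨?_, hs⟩
  have := (Nat.bijective_iff_surjective_and_card (sgnOf W X)).mpr ⟨hs, by rw [hc, h2]⟩
  exact this.1

end Cfsg.Agent.Lib.Helper14.SylAFinal

namespace Cfsg.Agent.Lib.Helper14.SylAFinal

open Cfsg.Agent.Lib.Helper14.SylA Cfsg.Agent.Lib.Helper7.SylALeaf Cfsg.Agent.Lib.Helper9.SylALeaf
  Cfsg.Agent.Lib.Helper12.SylALeaf Cfsg.Agent.Lib.Helper27.SylALeaf Cfsg.Agent.Lib.Helper28.SylALeaf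
  RegularWreathProduct

/-- the set of high bits -/
def hb (n : ℕ) : Finset ℕ := n.bitIndices.toFinset.filter (2 ≤ ·)

theorem two_le_of_mem_hb {n r : ℕ} (h : r ∈ hb n) : 2 ≤ r := (Finset.mem_filter.mp h).2

theorem sum_hb (n : ℕ) : ∑ k : ↥(hb n), 2 ^ (k : ℕ) = 4 * (n / 4) := by
  rw [Finset.sum_coe_sort (hb n) (fun r => 2 ^ r)]
  exact sum_high_bits n

theorem card_hb (n : ℕ) : Fintype.card ↥(hb n) = (hb n).card := Fintype.card_coe _

/-- the case `n ≡ 0, 1 (mod 4)`, `n ≥ 6` -/
theorem main_even (n : ℕ) (hn : 6 ≤ n) (h4 : n % 4 = 0 ∨ n % 4 = 1)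
    (P : Sylow 2 ↥(alternatingGroup (Fin n))) :
    ¬ DecompIn (P : Subgroup ↥(alternatingGroup (Fin n))) := by
  classical
  have hex : ∀ k : ↥(hb n), ∃ (W X : Type) (_ : Group W) (_ : MulAction W X) (_ : Fintype X)
      (_ : DecidableEq X), IsLevel (k : ℕ) W X := fun k =>
    exists_level k (by have := two_le_of_mem_hb k.2; omega)
  choose W X iG iA iF iD hlev using hex
  letI : ∀ k, Group (W k) := iG
  letI : ∀ k, MulAction (W k) (X k) := iA
  letI : ∀ k, Fintype (X k) := iF
  letI : ∀ k, DecidableEq (X k) := iD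
  have hcard0 : (hb n).card ≠ 0 := by
    intro h0
    have := (card_high_bits_eq_zero_iff n).mp h0
    omega
  haveI : Nonempty ↥(hb n) := by
    rw [← Fintype.card_pos_iff, card_hb]; omega
  obtain ⟨e⟩ := sylow_alt_equiv (ι := ↥(hb n)) (fun k => (k : ℕ))
    (fun k => by have := two_le_of_mem_hb k.2; omega) Subtype.val_injective W X hlev n (n % 4)
    (by omega) (by rw [sum_hb]; omega) P
  rw [decompIn_congr _ _ e]
  haveI : ∀ k, Finite (W k) := fun k => finite_of_level (hlev k)
  by_cases hc : (hb n).card = 1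
  · -- one high bit
    have hu : Fintype.card ↥(hb n) = 1 := by rw [card_hb]; exact hc
    obtain ⟨hu'⟩ := Fintype.card_eq_one_iff_nonempty_unique.mp hu
    letI := hu'
    obtain ⟨e2⟩ := ker_piSgn_unique_equiv W (fun k => sgnOf (W k) (X k))
    rw [decompIn_congr _ _ e2]
    have hsum := sum_hb n
    rw [Fintype.sum_unique] at hsum
    have hr2 := two_le_of_mem_hb (default : ↥(hb n)).2
    have hr3 : 3 ≤ ((default : ↥(hb n)) : ℕ) := by
      by_contra hlt
      have h2 : ((default : ↥(hb n)) : ℕ) = 2 := by omega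
      rw [h2] at hsum
      omega
    have hl := hlev default
    apply not_decompIn_of_card_center
    · exact (isPGroup_of_level hl).to_subgroup _
    · exact hl.center_ker hr3
  · -- at least two high bits
    have hc2 : 2 ≤ Fintype.card ↥(hb n) := by rw [card_hb]; omega
    exact not_decompIn_ker_piSgn W (fun k => sgnOf (W k) (X k)) hc2
      (fun k => (hlev k).sgn_surj) (fun k => isPGroup_of_level (hlev k))
      (fun k => (hlev k).center) (fun k => (hlev k).center_even (two_le_of_mem_hb k.2))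
      (fun k => center_ne_top_of_level (two_le_of_mem_hb k.2) (hlev k)) (fun k => (hlev k).ci)

end Cfsg.Agent.Lib.Helper14.SylAFinal

namespace Cfsg.Agent.Lib.Helper14.SylAFinal

open Cfsg.Agent.Lib.Helper14.SylA Cfsg.Agent.Lib.Helper7.SylALeaf Cfsg.Agent.Lib.Helper9.SylALeaf
  Cfsg.Agent.Lib.Helper12.SylALeaf Cfsg.Agent.Lib.Helper27.SylALeaf Cfsg.Agent.Lib.Helper28.SylALeaf
  RegularWreathProduct


/-- the case `n ≡ 2, 3 (mod 4)`, `n ≥ 6` -/
theorem main_odd (n : ℕ) (hn : 6 ≤ n) (h4 : n % 4 = 2 ∨ n % 4 = 3)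
    (P : Sylow 2 ↥(alternatingGroup (Fin n))) :
    DecompIn (P : Subgroup ↥(alternatingGroup (Fin n))) ↔ (hb n).card ≠ 1 := by
  classical
  have hex : ∀ k : ↥(hb n), ∃ (W X : Type) (_ : Group W) (_ : MulAction W X) (_ : Fintype X)
      (_ : DecidableEq X), IsLevel (k : ℕ) W X := fun k =>
    exists_level k (by have := two_le_of_mem_hb k.2; omega)
  choose W X iG iA iF iD hlev using hex
  letI : ∀ k, Group (W k) := iG
  letI : ∀ k, MulAction (W k) (X k) := iA
  letI : ∀ k, Fintype (X k) := iF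
  letI : ∀ k, DecidableEq (X k) := iD
  have hcard0 : (hb n).card ≠ 0 := by
    intro h0
    have := (card_high_bits_eq_zero_iff n).mp h0
    omega
  -- the family over `Option`
  have hlev' : ∀ o : Option ↥(hb n),
      IsLevel (optL (fun k : ↥(hb n) => (k : ℕ)) o) (optT W o) (optT X o) := by
    intro o
    cases o with
    | none => exact isLevel_one
    | some k => exact hlev k
  have hsum : ∑ o : Option ↥(hb n), 2 ^ optL (fun k : ↥(hb n) => (k : ℕ)) o = 2 + 4 * (n / 4) := by
    rw [Fintype.sum_option]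
    simp only [optL]
    rw [sum_hb]; norm_num
  obtain ⟨e⟩ := sylow_alt_equiv (ι := Option ↥(hb n)) (optL (fun k : ↥(hb n) => (k : ℕ)))
    (fun o => by
      cases o with
      | none => simp [optL]
      | some k => have := two_le_of_mem_hb k.2; simp only [optL]; omega)
    (optL_inj _ (fun k => two_le_of_mem_hb k.2) Subtype.val_injective) (optT W) (optT X) hlev'
    n (n % 4 - 2) (by omega) (by rw [hsum]; omega) P
  have hbij : Function.Bijective (sgnOf (optT W none) (optT X none)) := by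
    have h1 : IsLevel 1 (optT W none) (optT X none) := hlev' none
    apply bijective_sgn_of_card_two _ h1.sgn_surj
    rw [h1.cardW]; norm_num
  obtain ⟨e2⟩ := ker_piSgn_option_equiv (optT W) (fun o => sgnOf (optT W o) (optT X o)) hbij
  have e3 : ↥(P : Subgroup ↥(alternatingGroup (Fin n))) ≃* (∀ k : ↥(hb n), W k) := e.trans e2
  rw [decompIn_congr_top _ e3]
  haveI : ∀ k, Finite (W k) := fun k => finite_of_level (hlev k)
  haveI : ∀ k, Nontrivial (W k) := fun k => nontrivial_of_level (hlev k)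
  constructor
  · intro hdec hc
    have hu : Fintype.card ↥(hb n) = 1 := by rw [card_hb]; exact hc
    obtain ⟨hu'⟩ := Fintype.card_eq_one_iff_nonempty_unique.mp hu
    letI := hu'
    have e4 : (∀ k : ↥(hb n), W k) ≃* W default := MulEquiv.piUnique W
    have e5 : ↥(⊤ : Subgroup (∀ k : ↥(hb n), W k)) ≃* W default := Subgroup.topEquiv.trans e4
    rw [decompIn_congr_top _ e5] at hdec
    exact not_decompIn_top_of_card_center (isPGroup_of_level (hlev default)) (hlev default).center
      hdec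
  · intro hc
    have hc2 : 1 < Fintype.card ↥(hb n) := by rw [card_hb]; omega
    obtain ⟨k₁, k₂, h12⟩ := Fintype.exists_pair_of_one_lt_card hc2
    exact decompIn_top_pi W k₁ k₂ h12

end Cfsg.Agent.Lib.Helper14.SylAFinal

namespace Cfsg.Agent.Lib.Helper14.SylAFinal

open Cfsg.Agent.Lib.Helper14.SylA Cfsg.Agent.Lib.Helper7.SylALeaf Cfsg.Agent.Lib.Helper9.SylALeaf
  Cfsg.Agent.Lib.Helper12.SylALeaf Cfsg.Agent.Lib.Helper27.SylALeaf Cfsg.Agent.Lib.Helper28.SylALeaf
  RegularWreathProduct

theorem main (n : ℕ) (hn : 4 ≤ n) (P : Sylow 2 ↥(alternatingGroup (Fin n))) :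
    (∃ S₁ S₂ : Subgroup ↥(alternatingGroup (Fin n)), S₁ ≠ ⊥ ∧ S₂ ≠ ⊥ ∧
        Cfsg.IsInternalDirectProduct S₁ S₂ (P : Subgroup ↥(alternatingGroup (Fin n)))) ↔
      (n = 4 ∨ n = 5 ∨ ((n % 4 = 2 ∨ n % 4 = 3) ∧ ∀ r : ℕ, 4 * (n / 4) ≠ 2 ^ r)) := by
  change DecompIn (P : Subgroup ↥(alternatingGroup (Fin n))) ↔ _
  by_cases h45 : n = 4 ∨ n = 5
  · constructor
    · intro _
      rcases h45 with h | h
      · exact Or.inl h
      · exact Or.inr (Or.inl h)
    · intro _
      exact decompIn_small n h45 P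
  · have hn6 : 6 ≤ n := by omega
    have hmod : n % 4 = 0 ∨ n % 4 = 1 ∨ n % 4 = 2 ∨ n % 4 = 3 := by omega
    rcases hmod with h0 | h1 | h2 | h3
    · constructor
      · intro hd; exact absurd hd (main_even n hn6 (Or.inl h0) P)
      · rintro (h | h | ⟨h, _⟩) <;> omega
    · constructor
      · intro hd; exact absurd hd (main_even n hn6 (Or.inr h1) P)
      · rintro (h | h | ⟨h, _⟩) <;> omega
    · rw [main_odd n hn6 (Or.inl h2) P]
      constructor
      · intro hc
        refine Or.inr (Or.inr ⟨Or.inl h2, fun r hr => hc ((card_high_bits_eq_one_iff n).mpr ⟨r, hr⟩)⟩)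
      · rintro (h | h | ⟨_, h⟩)
        · omega
        · omega
        · intro hc
          obtain ⟨r, hr⟩ := (card_high_bits_eq_one_iff n).mp hc
          exact h r hr
    · rw [main_odd n hn6 (Or.inr h3) P]
      constructor
      · intro hc
        refine Or.inr (Or.inr ⟨Or.inr h3, fun r hr => hc ((card_high_bits_eq_one_iff n).mpr ⟨r, hr⟩)⟩)
      · rintro (h | h | ⟨_, h⟩)
        · omega
        · omega
        · intro hc
          obtain ⟨r, hr⟩ := (card_high_bits_eq_one_iff n).mp hc
          exact h r hr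

end Cfsg.Agent.Lib.Helper14.SylAFinal
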